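import Groth.Agent.Proj16.ValSection
import Groth.Agent.RegLoc6.Basic
import Mathlib

/-!
# Extending sections of closed separated maps over points of codimension at most one
-/

noncomputable section

universe u

open CategoryTheory CategoryTheory.Limits AlgebraicGeometry IsLocalRing TopologicalSpace

namespace Groth.Agent.Eg2RatExt

theorem valuationRing_of_regular (R : Type u) [CommRing R] [IsRegularLocalRing R] [IsDomain R]
    (h : ringKrullDim R ≤ 1) : ValuationRing R := by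
  classical
  obtain ⟨s, hs, hspan⟩ := Submodule.FG.exists_span_finset_card_eq_spanFinrank
    (IsNoetherian.noetherian (maximalIdeal R))
  have hle : (maximalIdeal R).spanFinrank ≤ 1 := by
    have := IsRegularLocalRing.spanFinrank_maximalIdeal (R := R)
    exact_mod_cast this ▸ h
  have hp : (maximalIdeal R).IsPrincipal := by
    rcases Finset.card_le_one_iff_subset_singleton.mp (hs ▸ hle) with ⟨a, ha⟩
    rcases Finset.subset_singleton_iff.mp ha with rfl | rfl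
    · rw [← hspan, Finset.coe_empty, Submodule.span_empty]; exact bot_isPrincipal
    · exact ⟨a, by rw [← hspan, Finset.coe_singleton]⟩
  exact ((tfae_of_isNoetherianRing_of_isLocalRing_of_isDomain R).out 4 1).mp hp

variable {X Y : Scheme.{u}}

/-- The base change of a closed map along a preimmersion is closed. -/
theorem isClosedMap_snd (f : X ⟶ Y) (hcl : IsClosedMap f) {T : Scheme.{u}} (a : T ⟶ Y) [IsPreimmersion a] :
    IsClosedMap (pullback.snd f a) := by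
  intro Z hZ
  obtain ⟨C, hC, rfl⟩ := (pullback.fst f a).isEmbedding.isInducing.isClosed_iff.mp hZ
  have : pullback.snd f a '' (pullback.fst f a ⁻¹' C) = a ⁻¹' (f '' C) := by
    ext t
    constructor
    · rintro ⟨p, hp, rfl⟩
      exact ⟨_, hp, by rw [← Scheme.Hom.comp_apply, pullback.condition, Scheme.Hom.comp_apply]⟩
    · rintro ⟨c, hc, hct⟩
      obtain ⟨p, hp1, hp2⟩ := Scheme.Pullback.exists_preimage_pullback c t hct
      exact ⟨p, show pullback.fst f a p ∈ C from hp1 ▸ hc, hp2⟩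
  rw [this]
  exact (hcl _ hC).preimage a.continuous

theorem exists_local_extension [IsReduced Y] (f : X ⟶ Y) [IsSeparated f] [LocallyOfFiniteType f]
    (hcl : IsClosedMap f) (V : Y.Opens) (hV : Dense (V : Set Y))
    (s : (V : Scheme.{u}) ⟶ X) (hs : s ≫ f = V.ι) (y : Y) [Y.IsGermInjectiveAt y]
    [IsDomain (Y.presheaf.stalk y)] [ValuationRing (Y.presheaf.stalk y)] :
    ∃ (U : Y.Opens) (_ : y ∈ U) (s' : (U : Scheme.{u}) ⟶ X), s' ≫ f = U.ι ∧
      Y.homOfLE (inf_le_left : U ⊓ V ≤ U) ≫ s' = Y.homOfLE inf_le_right ≫ s := by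
  let K := FractionRing (Y.presheaf.stalk y)
  let α : Spec (CommRingCat.of K) ⟶ Spec (Y.presheaf.stalk y) :=
    Spec.map (CommRingCat.ofHom (algebraMap (Y.presheaf.stalk y) K))
  let δ : Spec (CommRingCat.of K) ⟶ Y := α ≫ Y.fromSpecStalk y
  obtain ⟨U₀, hyU₀, hU₀, -, hinj⟩ := Y.exists_le_and_germ_injective y ⊤ trivial
  have hdom : IsDominant (α ≫ Spec.map (Y.presheaf.germ U₀ y hyU₀)) := by
    rw [show α ≫ Spec.map (Y.presheaf.germ U₀ y hyU₀) =
      Spec.map (Y.presheaf.germ U₀ y hyU₀ ≫ CommRingCat.ofHom (algebraMap (Y.presheaf.stalk y) K)) from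
        (Spec.map_comp _ _).symm]
    exact Proj16.specMap_isDominant _ ((IsFractionRing.injective _ K).comp hinj)
  let δ₀ : Spec (CommRingCat.of K) ⟶ (U₀ : Scheme.{u}) :=
    (α ≫ Spec.map (Y.presheaf.germ U₀ y hyU₀)) ≫ hU₀.isoSpec.inv
  have hδ₀ : δ₀ ≫ U₀.ι = δ := by
    simp only [δ₀, δ, Category.assoc, hU₀.isoSpec_inv_ι]
    rw [← hU₀.fromSpecStalk_eq_fromSpecStalk hyU₀, IsAffineOpen.fromSpecStalk]
  let P : Spec (CommRingCat.of K) := closedPoint K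
  have hPeq : ∀ q : Spec (CommRingCat.of K), q = P := fun q => Subsingleton.elim (α := PrimeSpectrum K) q P
  have hδV : δ P ∈ V := by
    obtain ⟨z, hzU, hzV⟩ := hV.inter_open_nonempty (U₀ : Set Y) U₀.isOpen ⟨y, hyU₀⟩
    obtain ⟨w, hw, q, rfl⟩ := δ₀.denseRange.inter_open_nonempty (U₀.ι ⁻¹ᵁ V).1
      (U₀.ι ⁻¹ᵁ V).2 ⟨⟨z, hzU⟩, hzV⟩
    rw [← hδ₀, ← hPeq q]
    exact hw
  have hδrange : Set.range δ ⊆ Set.range V.ι := by
    rw [Scheme.Opens.range_ι]
    rintro _ ⟨q, rfl⟩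
    rw [hPeq q]
    exact hδV
  let δV : Spec (CommRingCat.of K) ⟶ (V : Scheme.{u}) := IsOpenImmersion.lift V.ι δ hδrange
  have hδVι : δV ≫ V.ι = δ := IsOpenImmersion.lift_fac _ _ _
  let x : Spec (CommRingCat.of K) ⟶ pullback f (Y.fromSpecStalk y) :=
    pullback.lift (δV ≫ s) α (by rw [Category.assoc, hs, hδVι])
  let hR : IsDomain (Y.presheaf.stalk y) := inferInstance
  let hR2 : ValuationRing (Y.presheaf.stalk y) := inferInstance
  obtain ⟨σ₀, hσ₁, hσ₂⟩ := @Proj16.exists_section_of_isClosedMap (Y.presheaf.stalk y) _ hR hR2 K _ _ _ _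
    (pullback.snd f (Y.fromSpecStalk y)) (isClosedMap_snd f hcl (Y.fromSpecStalk y)) x (pullback.lift_snd _ _ _)
  let σ : Spec (Y.presheaf.stalk y) ⟶ X := σ₀ ≫ pullback.fst f _
  have hσf : σ ≫ f = Y.fromSpecStalk y ≫ 𝟙 Y := by
    simp only [σ, Category.assoc, pullback.condition, Category.comp_id]
    exact (Category.assoc _ _ _).symm.trans ((congrArg (· ≫ Y.fromSpecStalk y) hσ₁).trans (Category.id_comp _))
  have hσα : α ≫ σ = δV ≫ s := by
    simp only [σ, ← Category.assoc]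
    exact (congrArg (· ≫ pullback.fst f _) hσ₂).trans (pullback.lift_fst _ _ _)
  obtain ⟨U₁, hyU₁, g, hg, hgf⟩ := spread_out_of_isGermInjective' (𝟙 Y) f σ hσf
  rw [Category.comp_id] at hgf
  let U := U₀ ⊓ U₁
  refine ⟨U, ⟨hyU₀, hyU₁⟩, Y.homOfLE inf_le_right ≫ g, by rw [Category.assoc, hgf, Scheme.homOfLE_ι], ?_⟩
  let W := U ⊓ V
  have hr : Set.range δ ⊆ Set.range W.ι := by
    rw [Scheme.Opens.range_ι]
    rintro _ ⟨q, rfl⟩
    rw [hPeq q]
    refine ⟨⟨?_, ?_⟩, hδV⟩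
    · rw [← hδ₀]; exact (δ₀ P).2
    · have hsp : Y.fromSpecStalk y (α P) ⤳ y := by
        have : Y.fromSpecStalk y (α P) ∈ Set.range (Y.fromSpecStalk y) := ⟨_, rfl⟩
        rwa [Scheme.range_fromSpecStalk] at this
      exact hsp.mem_open U₁.2 hyU₁
  let δW : Spec (CommRingCat.of K) ⟶ (W : Scheme.{u}) := IsOpenImmersion.lift W.ι δ hr
  have hδWι : δW ≫ W.ι = δ := IsOpenImmersion.lift_fac _ _ _
  have hWU₀ : W ≤ U₀ := inf_le_left.trans inf_le_left
  have hδW₀ : δW ≫ Y.homOfLE hWU₀ = δ₀ := by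
    rw [← cancel_mono U₀.ι, Category.assoc, Scheme.homOfLE_ι, hδWι, hδ₀]
  have : IsDominant δW := by
    refine ⟨?_⟩
    have h0 : DenseRange δ₀ := δ₀.denseRange
    rw [denseRange_iff_closure_range, Set.eq_univ_iff_forall] at h0 ⊢
    intro w
    have := h0 (Y.homOfLE hWU₀ w)
    rw [mem_closure_iff] at this ⊢
    intro O hO hwO
    obtain ⟨z, hz, q, hq⟩ := this _ ((Y.homOfLE hWU₀).isOpenEmbedding.isOpenMap _ hO) ⟨w, hwO, rfl⟩
    refine ⟨δW q, ?_, q, rfl⟩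
    obtain ⟨o, ho, ho'⟩ := hz
    have : δW q = o := (Y.homOfLE hWU₀).isOpenEmbedding.injective (by
      rw [ho', ← hq, ← Scheme.Hom.comp_apply, hδW₀])
    exact this ▸ ho
  refine ext_of_isDominant_of_isSeparated f ?_ δW ?_
  · simp [hgf, hs]
  · have e2 : δW ≫ Y.homOfLE (inf_le_right : W ≤ V) = δV := by
      rw [← cancel_mono V.ι, Category.assoc, Scheme.homOfLE_ι, hδWι, hδVι]
    have e1 : δW ≫ Y.homOfLE (inf_le_left.trans inf_le_right : W ≤ U₁) =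
        α ≫ U₁.fromSpecStalkOfMem y hyU₁ := by
      rw [← cancel_mono U₁.ι, Category.assoc, Scheme.homOfLE_ι, hδWι, Category.assoc,
        Scheme.Opens.fromSpecStalkOfMem_ι]
    rw [Scheme.homOfLE_homOfLE_assoc]
    simp only [← Category.assoc]
    rw [e1, e2, Category.assoc, ← hg, hσα]

theorem exists_extension [IsReduced Y] [Y.IsGermInjective] (f : X ⟶ Y) [IsSeparated f]
    [LocallyOfFiniteType f] (hcl : IsClosedMap f) (V : Y.Opens) (hV : Dense (V : Set Y))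
    (s : (V : Scheme.{u}) ⟶ X) (hs : s ≫ f = V.ι) (T : Set Y)
    (hT : ∀ y ∈ T, ∃ _ : IsDomain (Y.presheaf.stalk y), ValuationRing (Y.presheaf.stalk y)) :
    ∃ (U : Y.Opens) (hVU : V ≤ U) (s' : (U : Scheme.{u}) ⟶ X),
      s' ≫ f = U.ι ∧ Y.homOfLE hVU ≫ s' = s ∧ T ⊆ U := by
  have hloc : ∀ y : T, ∃ (U : Y.Opens) (_ : y.1 ∈ U) (s' : (U : Scheme.{u}) ⟶ X), s' ≫ f = U.ι ∧
      Y.homOfLE (inf_le_left : U ⊓ V ≤ U) ≫ s' = Y.homOfLE inf_le_right ≫ s := fun y => by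
    obtain ⟨h1, h2⟩ := hT y.1 y.2
    exact exists_local_extension f hcl V hV s hs y.1
  choose W hW g hgf hgs using hloc
  let Ui : Option T → Y.Opens := fun i => i.elim V W
  let gi : ∀ i, (Ui i : Scheme.{u}) ⟶ X
    | none => s
    | some y => g y
  have hgif : ∀ i, gi i ≫ f = (Ui i).ι := by
    rintro (_ | y)
    · exact hs
    · exact hgf y
  have hgis : ∀ i, Y.homOfLE (inf_le_left : Ui i ⊓ V ≤ Ui i) ≫ gi i = Y.homOfLE inf_le_right ≫ s := by
    rintro (_ | y)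
    · show Y.homOfLE (inf_le_left : V ⊓ V ≤ V) ≫ s = _
      rfl
    · exact hgs y
  have hov : ∀ i j, Y.homOfLE (inf_le_left : Ui i ⊓ Ui j ≤ Ui i) ≫ gi i =
      Y.homOfLE inf_le_right ≫ gi j := by
    intro i j
    let O := Ui i ⊓ Ui j
    have : IsDominant (Y.homOfLE (inf_le_left : O ⊓ V ≤ O)) := by
      refine ⟨?_⟩
      rw [DenseRange, dense_iff_inter_open]
      rintro A hA ⟨a, ha⟩
      obtain ⟨z, ⟨b, hb, rfl⟩, hzV⟩ :=
        hV.inter_open_nonempty (O.ι '' A) (O.ι.isOpenEmbedding.isOpenMap _ hA) ⟨_, a, ha, rfl⟩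
      exact ⟨b, hb, ⟨b.1, ⟨b.2, hzV⟩⟩, Subtype.ext (Scheme.homOfLE_apply _ _)⟩
    refine ext_of_isDominant_of_isSeparated f (by simp [hgif]) (Y.homOfLE (inf_le_left : O ⊓ V ≤ O)) ?_
    have h1 := congrArg (Y.homOfLE (le_inf (inf_le_left.trans inf_le_left) inf_le_right : O ⊓ V ≤ Ui i ⊓ V) ≫ ·) (hgis i)
    have h2 := congrArg (Y.homOfLE (le_inf (inf_le_left.trans inf_le_right) inf_le_right : O ⊓ V ≤ Ui j ⊓ V) ≫ ·) (hgis j)
    simp only [Scheme.homOfLE_homOfLE_assoc] at h1 h2 ⊢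
    rw [h1, h2]
  let U : Y.Opens := ⨆ i, Ui i
  have hle : ∀ i, Ui i ≤ U := le_iSup Ui
  let 𝒰 : (U : Scheme.{u}).OpenCover :=
    (U : Scheme.{u}).openCoverOfIsOpenCover (fun i => U.ι ⁻¹ᵁ Ui i) (by
      rw [IsOpenCover, eq_top_iff]
      rintro z -
      obtain ⟨i, hi⟩ := Opens.mem_iSup.mp z.2
      exact Opens.mem_iSup.mpr ⟨i, hi⟩)
  let e : ∀ i, ((U.ι ⁻¹ᵁ Ui i : (U : Scheme.{u}).Opens) : Scheme.{u}) ⟶ (Ui i : Scheme.{u}) :=
    fun i => U.ι ∣_ Ui i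
  let S := 𝒰.glueMorphisms (fun i => e i ≫ gi i) fun (i j : Option T) => by
    let P := pullback (𝒰.f i) (𝒰.f j)
    let a : P ⟶ (Ui i : Scheme.{u}) := pullback.fst (𝒰.f i) (𝒰.f j) ≫ e i
    let b : P ⟶ (Ui j : Scheme.{u}) := pullback.snd (𝒰.f i) (𝒰.f j) ≫ e j
    have hab : a ≫ (Ui i).ι = b ≫ (Ui j).ι := by
      have h1 : ∀ k : Option T, e k ≫ (Ui k).ι = (U.ι ⁻¹ᵁ Ui k).ι ≫ U.ι := fun k => morphismRestrict_ι _ _
      show (pullback.fst (𝒰.f i) (𝒰.f j) ≫ e i) ≫ (Ui i).ι = (pullback.snd (𝒰.f i) (𝒰.f j) ≫ e j) ≫ (Ui j).ι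
      refine (Category.assoc _ _ _).trans (Eq.trans ?_ (Category.assoc _ _ _).symm)
      refine (congrArg (pullback.fst (𝒰.f i) (𝒰.f j) ≫ ·) (h1 i)).trans ?_
      refine Eq.trans ?_ (congrArg (pullback.snd (𝒰.f i) (𝒰.f j) ≫ ·) (h1 j)).symm
      exact pullback.condition_assoc (f := 𝒰.f i) (g := 𝒰.f j) U.ι
    have hr : Set.range (a ≫ (Ui i).ι) ⊆ Set.range (Ui i ⊓ Ui j).ι := by
      rw [Scheme.Opens.range_ι]
      rintro _ ⟨p, rfl⟩
      refine ⟨(a p).2, ?_⟩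
      rw [hab]
      exact (b p).2
    let c := IsOpenImmersion.lift (Ui i ⊓ Ui j).ι (a ≫ (Ui i).ι) hr
    have hc : c ≫ (Ui i ⊓ Ui j).ι = a ≫ (Ui i).ι := IsOpenImmersion.lift_fac _ _ _
    have hca : c ≫ Y.homOfLE inf_le_left = a := by
      rw [← cancel_mono (Ui i).ι, Category.assoc, Scheme.homOfLE_ι, hc]
    have hcb : c ≫ Y.homOfLE inf_le_right = b := by
      rw [← cancel_mono (Ui j).ι, Category.assoc, Scheme.homOfLE_ι, hc, hab]
    show pullback.fst _ _ ≫ e i ≫ gi i = pullback.snd _ _ ≫ e j ≫ gi j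
    rw [← Category.assoc, ← Category.assoc]
    show a ≫ gi i = b ≫ gi j
    rw [← hca, ← hcb, Category.assoc, Category.assoc, hov]
  have hS : ∀ i, (U.ι ⁻¹ᵁ Ui i).ι ≫ S = e i ≫ gi i := fun i => 𝒰.ι_glueMorphisms _ _ i
  refine ⟨U, hle none, S, ?_, ?_, fun y hy => hle (some ⟨y, hy⟩) (hW _)⟩
  · refine 𝒰.hom_ext _ _ fun (i : Option T) => ?_
    show (U.ι ⁻¹ᵁ Ui i).ι ≫ S ≫ f = (U.ι ⁻¹ᵁ Ui i).ι ≫ U.ι
    rw [← Category.assoc, hS, Category.assoc, hgif, morphismRestrict_ι]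
  · have hr : Set.range (Y.homOfLE (hle none)) ⊆ Set.range (U.ι ⁻¹ᵁ Ui none).ι := by
      rw [Scheme.Opens.range_ι]
      rintro _ ⟨p, rfl⟩
      show U.ι (Y.homOfLE (hle none) p) ∈ Ui none
      rw [← Scheme.Hom.comp_apply, Scheme.homOfLE_ι]
      exact p.2
    let l := IsOpenImmersion.lift (U.ι ⁻¹ᵁ Ui none).ι (Y.homOfLE (hle none)) hr
    have hl : l ≫ (U.ι ⁻¹ᵁ Ui none).ι = Y.homOfLE (hle none) := IsOpenImmersion.lift_fac _ _ _
    have hle' : l ≫ e none = 𝟙 _ := by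
      rw [← cancel_mono (Ui none).ι, Category.assoc, morphismRestrict_ι, ← Category.assoc, hl,
        Scheme.homOfLE_ι, Category.id_comp]
    show Y.homOfLE (hle none) ≫ S = gi none
    rw [← hl, Category.assoc, hS, ← Category.assoc, hle', Category.id_comp]

theorem exists_extension_codim_one [IsLocallyNoetherian Y] [IsReduced Y]
    (hreg : ∀ y : Y, ringKrullDim (Y.presheaf.stalk y) ≤ 1 → IsRegularLocalRing (Y.presheaf.stalk y))
    (f : X ⟶ Y) [IsSeparated f]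
    [LocallyOfFiniteType f] (hcl : IsClosedMap f) (V : Y.Opens) (hV : Dense (V : Set Y))
    (s : (V : Scheme.{u}) ⟶ X) (hs : s ≫ f = V.ι) :
    ∃ (U : Y.Opens) (hVU : V ≤ U) (s' : (U : Scheme.{u}) ⟶ X),
      s' ≫ f = U.ι ∧ Y.homOfLE hVU ≫ s' = s ∧
      ∀ y : Y, ringKrullDim (Y.presheaf.stalk y) ≤ 1 → y ∈ U := by
  obtain ⟨U, h1, s', h2, h3, h4⟩ := exists_extension f hcl V hV s hs
    {y | ringKrullDim (Y.presheaf.stalk y) ≤ 1} fun y hy => by
      have := hreg y hy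
      have := RegLoc6.isDomain_of_isRegularLocalRing (Y.presheaf.stalk y)
      exact ⟨this, valuationRing_of_regular _ hy⟩
  exact ⟨U, h1, s', h2, h3, h4⟩

theorem exists_extension_proper {S : Scheme.{u}} (p : X ⟶ S) [IsProper p] (q : Y ⟶ S)
    [IsLocallyNoetherian Y] [IsReduced Y]
    (hreg : ∀ y : Y, ringKrullDim (Y.presheaf.stalk y) ≤ 1 → IsRegularLocalRing (Y.presheaf.stalk y))
    (V : Y.Opens) (hV : Dense (V : Set Y)) (g : (V : Scheme.{u}) ⟶ X) (hg : g ≫ p = V.ι ≫ q) :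
    ∃ (U : Y.Opens) (hVU : V ≤ U) (g' : (U : Scheme.{u}) ⟶ X),
      g' ≫ p = U.ι ≫ q ∧ Y.homOfLE hVU ≫ g' = g ∧
      ∀ y : Y, ringKrullDim (Y.presheaf.stalk y) ≤ 1 → y ∈ U := by
  obtain ⟨U, h1, s', h2, h3, h4⟩ := exists_extension_codim_one hreg (pullback.snd p q)
    (pullback.snd p q).isClosedMap V hV (pullback.lift g V.ι hg) (pullback.lift_snd _ _ _)
  refine ⟨U, h1, s' ≫ pullback.fst p q, ?_, ?_, h4⟩
  · rw [Category.assoc, pullback.condition, ← Category.assoc, h2]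
  · rw [← Category.assoc, h3, pullback.lift_fst]

end Groth.Agent.Eg2RatExt
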